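import Groth.Agent.L14.STCI.Length
import Groth.Agent.L16.RatFunBasic
import Groth.Prelude.Def_MoreMor
import Mathlib.AlgebraicGeometry.Morphisms.UniversallyOpen
import Mathlib.AlgebraicGeometry.Morphisms.Preimmersion

/-!
Lengths at the generic points of a flat formally smooth morphism.
-/

set_option autoImplicit false
universe u

open AlgebraicGeometry CategoryTheory

namespace Groth.L14.STCI

/-- A map of an affine scheme into the set of points with a given point as only member lifts to the stalk. -/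
theorem exists_lift_stalk {X : Scheme.{u}} (η : X) {A : CommRingCat.{u}} (l : Spec A ⟶ X)
    (hl : ∀ p, l.base p = η) : ∃ h : X.presheaf.stalk η ⟶ A, Spec.map h ≫ X.fromSpecStalk η = l := by
  obtain ⟨_, ⟨U, hU0, rfl⟩, hxU, -⟩ :=
    X.isBasis_affineOpens.exists_subset_of_mem_open (Set.mem_univ η) isOpen_univ
  have hU : IsAffineOpen U := hU0
  let φ : Γ(X, U) ⟶ A := Spec.preimage (IsOpenImmersion.lift hU.fromSpec l (by
    rintro _ ⟨p, rfl⟩
    rw [hU.range_fromSpec, hl p]; exact hxU))
  have hφ : Spec.map φ ≫ hU.fromSpec = l := by rw [Spec.map_preimage]; exact IsOpenImmersion.lift_fac _ _ _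
  letI : Algebra Γ(X, U) (X.presheaf.stalk η) := TopCat.Presheaf.algebra_section_stalk X.presheaf ⟨η, hxU⟩
  haveI : IsLocalization.AtPrime (X.presheaf.stalk η) (hU.primeIdealOf ⟨η, hxU⟩).asIdeal :=
    hU.isLocalization_stalk ⟨η, hxU⟩
  have hunit : ∀ y : (hU.primeIdealOf ⟨η, hxU⟩).asIdeal.primeCompl, IsUnit (φ.hom y) := by
    intro y
    by_contra hu
    obtain ⟨P, hP, hyP⟩ := exists_max_ideal_of_mem_nonunits hu
    have h1 : (Spec.map φ).base ⟨P, hP.isPrime⟩ = hU.primeIdealOf ⟨η, hxU⟩ := by
      refine hU.fromSpec.isOpenEmbedding.injective ?_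
      rw [hU.fromSpec_primeIdealOf]
      exact (congrArg (fun m => m.base (⟨P, hP.isPrime⟩ : Spec A)) hφ).trans (hl _)
    have h2 : (y : Γ(X, U)) ∈ ((Spec.map φ).base ⟨P, hP.isPrime⟩).asIdeal := hyP
    exact y.2 ((SetLike.ext_iff.1 (congrArg PrimeSpectrum.asIdeal h1) _).1 h2)
  let h : X.presheaf.stalk η ⟶ A := CommRingCat.ofHom (IsLocalization.lift (S := X.presheaf.stalk η) hunit)
  refine ⟨h, ?_⟩
  rw [← hU.fromSpecStalk_eq_fromSpecStalk hxU, IsAffineOpen.fromSpecStalk]
  refine Eq.trans (Spec.map_comp_assoc _ _ _).symm (Eq.trans ?_ hφ)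
  congr 2
  ext z
  exact IsLocalization.lift_eq hunit z

theorem length_stalk_eq {X' X : Scheme.{u}} (f : X' ⟶ X) [IrreducibleSpace ↥X'] [IrreducibleSpace ↥X]
    [IsNoetherian X'] [IsNoetherian X] [Flat f] (hf : MoreMor.IsFormallySmoothHom f) :
    Module.length (X'.presheaf.stalk (genericPoint X')) (X'.presheaf.stalk (genericPoint X'))
      = Module.length (X.presheaf.stalk (genericPoint X)) (X.presheaf.stalk (genericPoint X)) := by
  set η' := genericPoint X' with hη'
  have hmin : ∀ y : X', y ⤳ η' → y = η' := fun y hy => (hy.antisymm (genericPoint_specializes y)).eq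
  have hgen : f.base η' = genericPoint X := by
    obtain ⟨y, hy, hfy⟩ := (Flat.generalizingMap f) (genericPoint_specializes (f.base η'))
    rw [← hfy, hmin y hy]
  haveI : IsArtinianRing (X'.presheaf.stalk η') := L16.isArtinianRing_stalk_of_minimal η' hmin
  haveI : IsArtinianRing (X.presheaf.stalk (f.base η')) := L16.isArtinianRing_stalk_of_minimal _ fun y hy => by
    rw [hgen] at hy ⊢
    exact (hy.antisymm (genericPoint_specializes y)).eq
  rw [← hgen]
  let R := X.presheaf.stalk (f.base η')
  let S := X'.presheaf.stalk η'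
  letI : Algebra R S := (f.stalkMap η').hom.toAlgebra
  haveI : Module.Flat R S := Flat.stalkMap f η'
  haveI : Algebra.FormallySmooth R S := by
    refine Algebra.FormallySmooth.of_comp_surjective fun A _ _ I hI g => ?_
    let a : Spec (CommRingCat.of (A ⧸ I)) ⟶ X' := Spec.map (CommRingCat.ofHom g.toRingHom) ≫ X'.fromSpecStalk η'
    let b : Spec (CommRingCat.of A) ⟶ X := Spec.map (CommRingCat.ofHom (algebraMap R A)) ≫ X.fromSpecStalk (f.base η')
    obtain ⟨l, hla, hlb⟩ := hf A I hI a b (by
      simp only [a, b, Category.assoc, ← Scheme.SpecMap_stalkMap_fromSpecStalk, ← Spec.map_comp_assoc]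
      congr 2
      ext z
      exact (g.commutes z).symm)
    have hl : ∀ p, l.base p = η' := fun p => by
      have hIp : I ≤ p.asIdeal := fun x hx => p.isPrime.mem_of_pow_mem 2 (by
        rw [show x ^ 2 = 0 from by rw [← Ideal.mem_bot, ← hI]; exact Ideal.pow_mem_pow hx 2]
        exact zero_mem _)
      obtain ⟨q, rfl⟩ : p ∈ Set.range (Spec.map (CommRingCat.ofHom (Ideal.Quotient.mk I))).base := by
        change p ∈ Set.range (PrimeSpectrum.comap (Ideal.Quotient.mk I))
        rw [range_comap_of_surjective _ _ Ideal.Quotient.mk_surjective, Ideal.mk_ker]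
        exact (PrimeSpectrum.mem_zeroLocus _ _).2 hIp
      rw [← Scheme.Hom.comp_apply, hla]
      apply hmin
      exact (Scheme.range_fromSpecStalk (X := X') (x := η')).le ⟨_, rfl⟩
    obtain ⟨h, hh⟩ := exists_lift_stalk η' l hl
    have h1 : (CommRingCat.ofHom (algebraMap R A)) = f.stalkMap η' ≫ h := by
      refine Spec.map_injective ((cancel_mono (X.fromSpecStalk (f.base η'))).1 ?_)
      rw [Spec.map_comp, Category.assoc, Scheme.SpecMap_stalkMap_fromSpecStalk, ← Category.assoc, hh, hlb]
    have h2 : CommRingCat.ofHom g.toRingHom = h ≫ CommRingCat.ofHom (Ideal.Quotient.mk I) := by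
      refine Spec.map_injective ((cancel_mono (X'.fromSpecStalk η')).1 ?_)
      rw [Spec.map_comp, Category.assoc, hh, hla]
    refine ⟨⟨h.hom, fun z => (congrArg (fun k => k.hom z) h1).symm⟩, AlgHom.ext fun z => ?_⟩
    exact (congrArg (fun k => k.hom z) h2).symm
  exact (length_eq R S).symm

end Groth.L14.STCI
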