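import Groth.Agent.L03.GeomReduced
import Mathlib.RingTheory.LocalRing.Length
import Mathlib.RingTheory.LocalRing.ResidueField.Fiber
import Mathlib.RingTheory.Smooth.Basic
import Mathlib.Algebra.Field.ULift

/-!
A flat formally smooth map of Artinian local rings preserves the length.
-/

set_option autoImplicit false
universe u v

open TensorProduct

namespace Groth.L14.STCI

theorem isLocalHom_of_artinian (A : Type u) (B : Type v) [CommRing A] [CommRing B] [IsLocalRing A] [IsLocalRing B]
    [IsArtinianRing A] [Algebra A B] : IsLocalHom (algebraMap A B) := by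
  refine ⟨fun a ha => ?_⟩
  by_contra hna
  obtain ⟨n, hn⟩ := IsArtinianRing.isNilpotent_jacobson_bot (R := A)
  have hmem : a ∈ Ideal.jacobson (⊥ : Ideal A) :=
    IsLocalRing.maximalIdeal_le_jacobson _ ((IsLocalRing.mem_maximalIdeal a).2 hna)
  have h0 : a ^ n = 0 := by
    have := Ideal.pow_mem_pow hmem n
    rwa [hn, Ideal.zero_eq_bot, Ideal.mem_bot] at this
  have := (ha.pow n)
  rw [← map_pow, h0, map_zero] at this
  exact not_isUnit_zero this

theorem length_eq (A : Type u) (B : Type v) [CommRing A] [CommRing B] [IsLocalRing A] [IsLocalRing B] [IsArtinianRing A]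
    [IsArtinianRing B] [Algebra A B] [Module.Flat A B] [Algebra.FormallySmooth A B] :
    Module.length A A = Module.length B B := by
  haveI := isLocalHom_of_artinian A B
  let κ := IsLocalRing.ResidueField A
  let C := κ ⊗[A] B
  let g : B →+* C := (Algebra.TensorProduct.includeRight : B →ₐ[A] C).toRingHom
  have hg : Function.Surjective g := TensorProduct.mk_surjective _ _ _ IsLocalRing.residue_surjective
  haveI : IsArtinianRing C := hg.isArtinianRing
  let L := ULift.{v} κ
  letI : Algebra L C := ULift.algebra' κ C
  haveI : IsScalarTower κ L C := ⟨fun x y z => by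
    show (x • y.down) • z = x • (y.down • z)
    exact smul_assoc x y.down z⟩
  haveI : Algebra.FormallyUnramified κ L :=
    Algebra.FormallyUnramified.of_surjective (R := κ) (A := κ) (ULift.algEquiv (R := κ) (A := κ)).symm.toAlgHom
      (ULift.algEquiv (R := κ) (A := κ)).symm.surjective
  haveI : Algebra.FormallySmooth L C := Algebra.FormallySmooth.of_restrictScalars κ L C
  haveI : PerfectField (⊥ : Subfield L) := Groth.L03.GeomReduced.perfectField_bot L
  haveI : Algebra.FormallySmooth (⊥ : Subfield L) L := Groth.L03.FieldFS.formallySmooth_of_perfectField _ _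
  haveI : Algebra.FormallySmooth (⊥ : Subfield L) C := .comp _ L _
  have hC : IsLocalRing.maximalIdeal C = ⊥ := Groth.L03.GeomReduced.maximalIdeal_eq_bot (⊥ : Subfield L) C
  have hker : (IsLocalRing.maximalIdeal A).map (algebraMap A B) = IsLocalRing.maximalIdeal B := by
    refine le_antisymm (((IsLocalRing.local_hom_TFAE (algebraMap A B)).out 0 2 rfl rfl).mp inferInstance) fun b hb => ?_
    haveI : IsLocalHom g := .of_surjective g hg
    have h1 : g b = 0 := by
      rw [← Ideal.mem_bot, ← hC, IsLocalRing.mem_maximalIdeal]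
      exact fun hu => hb (isUnit_of_map_unit g b hu)
    set I := (IsLocalRing.maximalIdeal A).map (algebraMap A B)
    let f1 : κ →ₐ[A] B ⧸ I := Ideal.Quotient.liftₐ (IsLocalRing.maximalIdeal A) (Algebra.ofId A (B ⧸ I))
      fun x hx => by
        show algebraMap A (B ⧸ I) x = 0
        rw [IsScalarTower.algebraMap_apply A B (B ⧸ I), Ideal.Quotient.algebraMap_eq, Ideal.Quotient.eq_zero_iff_mem]
        exact Ideal.mem_map_of_mem _ hx
    have h2 := congrArg (Algebra.TensorProduct.productMap f1 (Ideal.Quotient.mkₐ A I)) h1
    rw [map_zero] at h2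
    rw [← Ideal.Quotient.eq_zero_iff_mem]
    refine Eq.trans ?_ h2
    simp [g]
  have h := IsLocalRing.length_baseChange A B A
  rw [hker, (AlgebraTensorModule.rid A B B).length_eq] at h
  haveI : IsSimpleModule B (B ⧸ IsLocalRing.maximalIdeal B) :=
    isSimpleModule_iff_quot_maximal.2 ⟨_, inferInstance, ⟨LinearEquiv.refl _ _⟩⟩
  rw [Module.length_eq_one_iff.2 this, mul_one] at h
  exact h.symm

end Groth.L14.STCI
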